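import Groth.Agent.Lib.PerfClosCyc.Ring
import Groth.Agent.Lib.FibreFlat.Stalk
import Groth.Agent.Lib.CycFlat.Length
import Mathlib.AlgebraicGeometry.Morphisms.UniversallyInjective
import Mathlib.AlgebraicGeometry.Pullbacks
import Mathlib.AlgebraicGeometry.Noetherian

/-!
The projection `X ×_k K ⟶ X` for a purely inseparable extension `K/k`.
-/

set_option autoImplicit false
universe u

open CategoryTheory Limits AlgebraicGeometry TensorProduct IsLocalRing

namespace GrothLib.PerfClosCyc

variable (k K : Type u) [Field k] [Field K] [Algebra k K] [IsPurelyInseparable k K]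

theorem universallyInjective_specMap :
    UniversallyInjective (Spec.map (CommRingCat.ofHom (algebraMap k K))) := by
  refine ((tfae_universallyInjective (Spec.map (CommRingCat.ofHom (algebraMap k K)))).out 1 0).1 ?_
  intro L _ g₁ g₂ h
  obtain ⟨ψ₁, rfl⟩ := Spec.map_surjective g₁
  obtain ⟨ψ₂, rfl⟩ := Spec.map_surjective g₂
  simp only [← Spec.map_comp] at h
  have h' := congrArg CommRingCat.Hom.hom (Spec.map_injective h)
  simp only [CommRingCat.hom_comp, CommRingCat.hom_ofHom] at h'
  rw [show ψ₁ = ψ₂ from CommRingCat.hom_ext (IsPurelyInseparable.injective_comp_algebraMap k K L h')]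

theorem resTrdeg_eq_zero {X Y : Scheme.{u}} (g : X ⟶ Y) [UniversallyInjective g] (x : X) :
    GrothLib.CycFlat.resTrdeg g x = 0 := by
  have h := (((tfae_universallyInjective g).out 0 2 (a := UniversallyInjective g)
    (b := Function.Injective g ∧ ∀ x, (g.residueFieldMap x).hom.IsPurelyInseparable) rfl rfl).1 ‹_›).2 x
  algebraize [(g.residueFieldMap x).hom]
  exact trdeg_eq_zero

/-- The length of a ring computed through a surjection. -/
theorem length_quotient_ker {A B : Type u} [CommRing A] [CommRing B] (f : A →+* B)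
    (hf : Function.Surjective f) : Module.length A (A ⧸ RingHom.ker f) = Module.length B B := by
  letI := f.toAlgebra
  rw [← Module.length_eq_of_surjective (S := A) (R := B) (M := B) hf]
  exact (Ideal.quotientKerAlgEquivOfSurjective (f := Algebra.ofId A B) hf).toLinearEquiv.length_eq

section

variable {k K} (p : ℕ) [Fact p.Prime] [CharP k p] {X : Scheme.{u}} (f : X ⟶ Spec (CommRingCat.of k))

/-- The fibre over a point. -/
theorem exists_fibre_spec (x : X) : ∃ (κ : Type u) (_ : Field κ) (_ : Algebra k κ),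
    Nonempty ((pullback.fst f (Spec.map (CommRingCat.ofHom (algebraMap k K)))).fiber x ≅
      Spec (CommRingCat.of (κ ⊗[k] K))) := by
  let φ : CommRingCat.of k ⟶ X.residueField x := Spec.preimage (X.fromSpecResidueField x ≫ f)
  letI : Algebra k (X.residueField x) := φ.hom.toAlgebra
  have hφ : Spec.map (CommRingCat.ofHom (algebraMap k (X.residueField x))) = X.fromSpecResidueField x ≫ f :=
    Spec.map_preimage (X.fromSpecResidueField x ≫ f)
  let t := Spec.map (CommRingCat.ofHom (algebraMap k K))
  let g := pullback.fst f t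
  have h1 : IsPullback (g.fiberToSpecResidueField x) (g.fiberι x) (X.fromSpecResidueField x) g :=
    (IsPullback.of_hasPullback g (X.fromSpecResidueField x)).flip
  have h2 := h1.paste_vert (IsPullback.of_hasPullback f t)
  rw [← hφ] at h2
  exact ⟨X.residueField x, inferInstance, inferInstance,
    ⟨h2.isoPullback ≪≫ pullbackSpecIso k (X.residueField x) K⟩⟩

variable [IsLocallyNoetherian (pullback f (Spec.map (CommRingCat.ofHom (algebraMap k K))))]

include p in
theorem existsUnique_over (x : X) :
    ∃! x', pullback.fst f (Spec.map (CommRingCat.ofHom (algebraMap k K))) x' = x := by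
  obtain ⟨κ, _, _, ⟨e⟩⟩ := exists_fibre_spec (K := K) f x
  haveI := nontrivial_tensor k κ K
  haveI : Subsingleton (PrimeSpectrum (κ ⊗[k] K)) :=
    subsingleton_primeSpectrum p (exists_pow_mem k κ K p)
  haveI : Nonempty (PrimeSpectrum (κ ⊗[k] K)) := inferInstance
  let g := pullback.fst f (Spec.map (CommRingCat.ofHom (algebraMap k K)))
  refine ⟨g.fiberι x (e.inv (Classical.arbitrary (PrimeSpectrum (κ ⊗[k] K)))),
    GrothLib.CycFlat.apply_fiberι g x _, fun y hy => ?_⟩
  obtain ⟨z, rfl⟩ : y ∈ Set.range (g.fiberι x) := by rw [g.range_fiberι]; exact hy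
  refine congrArg _ (e.hom.isOpenEmbedding.injective ?_)
  exact Subsingleton.elim (α := PrimeSpectrum (κ ⊗[k] K)) _ _

include p in
theorem exists_fibLength_eq_pow (x' : ↥(pullback f (Spec.map (CommRingCat.ofHom (algebraMap k K))))) :
    ∃ a : ℕ, GrothLib.CycFlat.fibLength
      (pullback.fst f (Spec.map (CommRingCat.ofHom (algebraMap k K)))) x' = (p ^ a : ℕ) := by
  let g := pullback.fst f (Spec.map (CommRingCat.ofHom (algebraMap k K)))
  obtain ⟨κ, _, _, ⟨e⟩⟩ := exists_fibre_spec (K := K) f (g x')
  haveI := nontrivial_tensor k κ K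
  haveI := isLocalRing p (exists_pow_mem k κ K p)
  haveI : Subsingleton (PrimeSpectrum (κ ⊗[k] K)) :=
    subsingleton_primeSpectrum p (exists_pow_mem k κ K p)
  let z := g.asFiber x'
  let q : PrimeSpectrum (κ ⊗[k] K) := e.hom z
  obtain ⟨hsurj, hker⟩ := GrothLib.FibreFlat.fiberι_stalkMap' g (g x') z x' (g.fiberι_asFiber x')
  let ι : (Spec (CommRingCat.of (κ ⊗[k] K))).presheaf.stalk q ≅ (g.fiber (g x')).presheaf.stalk z :=
    asIso (e.hom.stalkMap z)
  letI : Algebra (κ ⊗[k] K) ((Spec (CommRingCat.of (κ ⊗[k] K))).presheaf.stalk q) :=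
    StructureSheaf.stalkAlgebra (κ ⊗[k] K) q
  haveI : IsLocalization.AtPrime ((Spec (CommRingCat.of (κ ⊗[k] K))).presheaf.stalk q) q.asIdeal :=
    StructureSheaf.IsLocalization.to_stalk (κ ⊗[k] K) q
  have hu : q.asIdeal.primeCompl ≤ IsUnit.submonoid (κ ⊗[k] K) := fun b hb => by
    rcases isNilpotent_or_isUnit p (exists_pow_mem k κ K p) b with ⟨n, hn⟩ | hu
    · exact absurd (q.isPrime.mem_of_pow_mem n (hn ▸ zero_mem _)) hb
    · exact hu
  let σ := (IsLocalization.atUnits (κ ⊗[k] K) q.asIdeal.primeCompl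
    (S := (Spec (CommRingCat.of (κ ⊗[k] K))).presheaf.stalk q) hu).toRingEquiv
  let ψ := (σ.symm.toRingHom.comp ι.inv.hom).comp
    (((pullback f (Spec.map (CommRingCat.ofHom (algebraMap k K)))).presheaf.stalkCongr
      (.of_eq (g.fiberι_asFiber x').symm)).hom ≫ (g.fiberι (g x')).stalkMap z).hom
  have hι : Function.Bijective ι.inv.hom := ConcreteCategory.bijective_of_isIso ι.inv
  have hψs : Function.Surjective ψ := (σ.symm.surjective.comp hι.2).comp hsurj
  have hψk : RingHom.ker ψ =
      (maximalIdeal (X.presheaf.stalk (g x'))).map (g.stalkMap x').hom := by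
    rw [← hker]
    exact RingHom.ker_comp_of_injective _ (σ.symm.injective.comp hι.1)
  haveI : IsNoetherianRing (κ ⊗[k] K) := isNoetherianRing_of_surjective _ _ ψ hψs
  obtain ⟨a, ha⟩ := exists_length_tensor_eq_pow k κ K p
  refine ⟨a, ?_⟩
  rw [← ha, ← length_quotient_ker ψ hψs, hψk]

end

end GrothLib.PerfClosCyc
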