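import Groth.Agent.Lib.PerfUH.Ring
import Mathlib.RingTheory.LocalRing.Length
import Mathlib.RingTheory.RingHom.Flat
import Mathlib.FieldTheory.PurelyInseparable.Basic
import Mathlib.RingTheory.Artinian.Ring
import Mathlib.RingTheory.HopkinsLevitzki
import Mathlib.RingTheory.TensorProduct.Free
import Mathlib.RingTheory.TensorProduct.Finite
import Mathlib.LinearAlgebra.Dimension.Constructions
import Mathlib.LinearAlgebra.TensorProduct.RightExactness

/-!
Tensor products of a field with a purely inseparable extension: local, and of `p`-power length.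
-/

set_option autoImplicit false
universe u

open TensorProduct IsLocalRing

namespace GrothLib.PerfClosCyc

section general

variable {κ B : Type u} [Field κ] [CommRing B] [Algebra κ B] [Nontrivial B] (p : ℕ) [Fact p.Prime]
  (h : ∀ b : B, ∃ e, b ^ p ^ e ∈ Set.range (algebraMap κ B))

include h in
omit [Nontrivial B] in
theorem isNilpotent_or_isUnit (b : B) : IsNilpotent b ∨ IsUnit b := by
  obtain ⟨e, c, hc⟩ := h b
  rcases eq_or_ne c 0 with rfl | hne
  · exact .inl ⟨p ^ e, by rw [← hc, map_zero]⟩
  · exact .inr ((isUnit_pow_iff (pow_ne_zero e (Fact.out : p.Prime).ne_zero)).1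
      (hc ▸ (IsUnit.mk0 c hne).map _))

include h in
theorem isLocalRing : IsLocalRing B :=
  .of_nonunits_add fun a b ha hb => by
    have h1 := (isNilpotent_or_isUnit p h a).resolve_right ha
    have h2 := (isNilpotent_or_isUnit p h b).resolve_right hb
    exact fun hu => ((Commute.all a b).isNilpotent_add h1 h2).not_isUnit hu

include h in
omit [Nontrivial B] in
theorem isMaximal_of_isPrime (P : Ideal B) [hP : P.IsPrime] : P.IsMaximal := by
  refine ⟨⟨hP.ne_top, fun Q hQ => ?_⟩⟩
  obtain ⟨b, hbQ, hbP⟩ := SetLike.exists_of_lt hQ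
  rcases isNilpotent_or_isUnit p h b with ⟨n, hn⟩ | hu
  · exact absurd (hP.mem_of_pow_mem n (hn ▸ zero_mem P)) hbP
  · exact Ideal.eq_top_of_isUnit_mem _ hbQ hu

include h in
omit [Nontrivial B] in
theorem subsingleton_primeSpectrum : Subsingleton (PrimeSpectrum B) := by
  have key : ∀ P Q : PrimeSpectrum B, P.asIdeal ≤ Q.asIdeal := fun P Q b hb => by
    rcases isNilpotent_or_isUnit p h b with ⟨n, hn⟩ | hu
    · exact Q.isPrime.mem_of_pow_mem n (hn ▸ zero_mem _)
    · exact absurd (Ideal.eq_top_of_isUnit_mem _ hb hu) P.isPrime.ne_top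
  exact ⟨fun P Q => PrimeSpectrum.ext (le_antisymm (key P Q) (key Q P))⟩

/-- A finite local algebra of `p`-power dimension has `p`-power length. -/
theorem exists_length_eq_pow [IsLocalRing B] [Module.Finite κ B] {N : ℕ}
    (hN : Module.finrank κ B = p ^ N) : ∃ a : ℕ, Module.length B B = (p ^ a : ℕ) := by
  haveI : IsArtinianRing B := IsArtinianRing.of_finite κ B
  obtain ⟨l, hl⟩ := ENat.ne_top_iff_exists.1 (Module.length_ne_top (R := B) (M := B))
  haveI : IsLocalHom (algebraMap κ B) := ⟨fun x hx => isUnit_iff_ne_zero.2 fun h0 => by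
    rw [h0, map_zero] at hx
    exact not_isUnit_zero hx⟩
  haveI : Module.Finite κ (ResidueField B) :=
    Module.Finite.of_surjective (IsScalarTower.toAlgHom κ B (ResidueField B)).toLinearMap
      residue_surjective
  have h1 := IsLocalRing.length_restrictScalars κ B B
  rw [Module.length_eq_finrank κ B, hN, Module.length_eq_finrank (ResidueField κ) (ResidueField B), ← hl] at h1
  have h2 : p ^ N = l * Module.finrank (ResidueField κ) (ResidueField B) := by exact_mod_cast h1
  obtain ⟨a, -, ha⟩ := (Nat.dvd_prime_pow Fact.out).1 ⟨_, h2⟩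
  exact ⟨a, by rw [← hl, ha]⟩

end general

/-- Flat local maps with trivial fibre preserve the length. -/
theorem length_eq_of_flat {A B : Type u} [CommRing A] [CommRing B] [IsLocalRing A] [IsLocalRing B]
    (f : A →+* B) (hf : f.Flat) (hm : (maximalIdeal A).map f = maximalIdeal B) :
    Module.length B B = Module.length A A := by
  algebraize [f]
  haveI : IsLocalHom (algebraMap A B) := ⟨fun z hz => by_contra fun hz' => (show f z ∈ maximalIdeal B from
    hm ▸ Ideal.mem_map_of_mem f hz') hz⟩
  have h1 := IsLocalRing.length_baseChange A B A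
  rw [(TensorProduct.AlgebraTensorModule.rid A B B).length_eq,
    show (maximalIdeal A).map (algebraMap A B) = maximalIdeal B from hm] at h1
  haveI : IsSimpleModule B (B ⧸ maximalIdeal B) :=
    isSimpleModule_iff_isCoatom.2 (maximalIdeal.isMaximal _).out
  rwa [Module.length_eq_one (R := B) (M := B ⧸ maximalIdeal B), mul_one] at h1

variable (k κ K : Type u) [Field k] [Field κ] [Field K] [Algebra k κ] [Algebra k K]
  [IsPurelyInseparable k K] (p : ℕ) [Fact p.Prime] [CharP k p]

theorem nontrivial_tensor : Nontrivial (κ ⊗[k] K) :=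
  (Algebra.TensorProduct.includeLeft_injective (R := k) (S := k) (A := κ) (B := K)
    (FaithfulSMul.algebraMap_injective k K)).nontrivial

theorem exists_pow_mem (b : κ ⊗[k] K) : ∃ e, b ^ p ^ e ∈ Set.range (algebraMap κ (κ ⊗[k] K)) := by
  haveI := nontrivial_tensor k κ K
  haveI : CharP κ p := charP_of_injective_algebraMap (algebraMap k κ).injective p
  haveI : CharP (κ ⊗[k] K) p := charP_of_injective_algebraMap (algebraMap κ (κ ⊗[k] K)).injective p
  haveI : ExpChar (κ ⊗[k] K) p := ExpChar.prime Fact.out
  haveI : ExpChar k p := ExpChar.prime Fact.out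
  suffices b ∈ GrothLib.PerfUH.powClosure (A := κ) (B := κ ⊗[k] K) p from this
  induction b using TensorProduct.induction_on with
  | zero => exact zero_mem _
  | add x y hx hy => exact add_mem hx hy
  | tmul c y =>
    obtain ⟨e, a, ha⟩ := IsPurelyInseparable.pow_mem k p y
    refine ⟨e, c ^ p ^ e * algebraMap k κ a, ?_⟩
    rw [Algebra.TensorProduct.tmul_pow, ← ha, Algebra.TensorProduct.algebraMap_apply,
      Algebra.algebraMap_self_apply, Algebra.algebraMap_eq_smul_one (A := K) a, ← TensorProduct.smul_tmul,
      Algebra.smul_def, mul_comm]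

theorem exists_finite_level (b : κ ⊗[k] K) : ∃ L : IntermediateField k K,
    FiniteDimensional k L ∧ b ∈ (Algebra.TensorProduct.map (AlgHom.id κ κ) L.val).range := by
  induction b using TensorProduct.induction_on with
  | zero => exact ⟨⊥, inferInstance, zero_mem _⟩
  | tmul c y =>
    refine ⟨IntermediateField.adjoin k {y}, IntermediateField.adjoin.finiteDimensional
      (Algebra.IsIntegral.isIntegral y), c ⊗ₜ ⟨y, IntermediateField.mem_adjoin_simple_self k y⟩, ?_⟩
    simp
  | add x y hx hy =>
    obtain ⟨L, hL, hxL⟩ := hx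
    obtain ⟨L', hL', hyL⟩ := hy
    have mono : ∀ (M N : IntermediateField k K) (hMN : M ≤ N),
        (Algebra.TensorProduct.map (AlgHom.id κ κ) M.val).range ≤
          (Algebra.TensorProduct.map (AlgHom.id κ κ) N.val).range := by
      rintro M N hMN _ ⟨z, rfl⟩
      refine ⟨Algebra.TensorProduct.map (AlgHom.id κ κ) (IntermediateField.inclusion hMN) z, ?_⟩
      induction z using TensorProduct.induction_on with
      | zero => simp
      | tmul c y => simp
      | add z z' h h' => simp only [map_add, RingHom.coe_coe, AlgHom.toRingHom_eq_coe] at h h' ⊢; rw [h, h']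
    haveI := hL
    haveI := hL'
    exact ⟨L ⊔ L', inferInstance, add_mem (mono _ _ le_sup_left hxL) (mono _ _ le_sup_right hyL)⟩

theorem exists_finite_level' (s : Finset (κ ⊗[k] K)) : ∃ L : IntermediateField k K,
    FiniteDimensional k L ∧ ∀ b ∈ s, b ∈ (Algebra.TensorProduct.map (AlgHom.id κ κ) L.val).range := by
  classical
  induction s using Finset.induction_on with
  | empty => exact ⟨⊥, inferInstance, fun b hb => absurd hb (Finset.notMem_empty b)⟩
  | insert b s _ ih =>
    obtain ⟨L, hL, hs⟩ := ih
    obtain ⟨L', hL', hb⟩ := exists_finite_level k κ K b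
    haveI := hL
    haveI := hL'
    have mono : ∀ (M N : IntermediateField k K) (hMN : M ≤ N),
        (Algebra.TensorProduct.map (AlgHom.id κ κ) M.val).range ≤
          (Algebra.TensorProduct.map (AlgHom.id κ κ) N.val).range := by
      rintro M N hMN _ ⟨z, rfl⟩
      refine ⟨Algebra.TensorProduct.map (AlgHom.id κ κ) (IntermediateField.inclusion hMN) z, ?_⟩
      induction z using TensorProduct.induction_on with
      | zero => simp
      | tmul c y => simp
      | add z z' h h' => simp only [map_add, RingHom.coe_coe, AlgHom.toRingHom_eq_coe] at h h' ⊢; rw [h, h']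
    refine ⟨L ⊔ L', inferInstance, fun x hx => ?_⟩
    rcases Finset.mem_insert.1 hx with rfl | hx
    · exact mono _ _ le_sup_right hb
    · exact mono _ _ le_sup_left (hs x hx)

include p in
/-- The tensor product is local with length a power of `p`, when Noetherian. -/
theorem exists_length_tensor_eq_pow [IsNoetherianRing (κ ⊗[k] K)] :
    ∃ a : ℕ, Module.length (κ ⊗[k] K) (κ ⊗[k] K) = (p ^ a : ℕ) := by
  classical
  haveI := nontrivial_tensor k κ K
  haveI := isLocalRing p (exists_pow_mem k κ K p)
  obtain ⟨s, hs⟩ := (IsNoetherian.noetherian (maximalIdeal (κ ⊗[k] K)) : (maximalIdeal (κ ⊗[k] K)).FG)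
  obtain ⟨L, hL, hsL⟩ := exists_finite_level' k κ K s
  haveI := nontrivial_tensor k κ L
  haveI := isLocalRing p (exists_pow_mem k κ L p)
  let ι := Algebra.TensorProduct.map (AlgHom.id κ κ) L.val
  haveI : ExpChar k p := ExpChar.prime Fact.out
  obtain ⟨N, hN⟩ := IsPurelyInseparable.finrank_eq_pow k L p
  obtain ⟨a, ha⟩ := exists_length_eq_pow (κ := κ) (B := κ ⊗[k] L) p (N := N)
    (by rw [Module.finrank_baseChange, hN])
  refine ⟨a, ?_⟩
  have hflat : ι.toRingHom.Flat := RingHom.Flat.tensorProductMap
    (f := AlgHom.id κ κ) (g := L.val) (RingHom.Flat.id κ)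
    (RingHom.flat_algebraMap_iff.2 (inferInstanceAs (Module.Flat L K)))
  have hloc : ∀ z : κ ⊗[k] L, IsUnit (ι z) → IsUnit z := fun z hz => by
    rcases isNilpotent_or_isUnit p (exists_pow_mem k κ L p) z with hn | hu
    · exact absurd hz (hn.map ι).not_isUnit
    · exact hu
  refine (length_eq_of_flat ι.toRingHom hflat (le_antisymm
    (Ideal.map_le_iff_le_comap.2 fun z hz => fun hu => hz (hloc z hu)) ?_)).trans ha
  conv_lhs => rw [← hs]
  refine Ideal.span_le.2 fun b hb => ?_
  obtain ⟨z, rfl⟩ := hsL b hb
  refine Ideal.mem_map_of_mem _ fun hu => ?_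
  have : ι z ∈ maximalIdeal (κ ⊗[k] K) := hs ▸ Ideal.subset_span hb
  exact this (hu.map ι)

end GrothLib.PerfClosCyc
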